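import Groth.Agent.ResPropLib.Affine
import Groth.Agent.OmegaAffLib.Ideal
import Groth.Agent.LimHom.Hom
import Groth.Agent.FactorOne.Basic
import Groth.Agent.IdealStalkLib.Comap
import Groth.Agent.EtAlgEasy.GrMapStalk
import Groth.Agent.HilbObsLib.Ideal

/-!
The resolution property forces affine diagonal.
-/

set_option autoImplicit false
set_option linter.style.haveILetI false
set_option backward.isDefEq.respectTransparency false

universe u

open CategoryTheory CategoryTheory.Limits AlgebraicGeometry TopologicalSpace Opposite IsLocalRing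
open Groth.Agent.PullbackMod Groth.Agent.DCohLib

noncomputable section

namespace Groth.Agent.ResDiagLib

variable {X : Scheme.{u}}

/-- A cosection of a bundle cutting out the complement of a quasi-compact open. -/
theorem exists_cosection [CompactSpace ↥X] [QuasiSeparatedSpace ↥X] (hX : PerfAux.HasResolutionProperty X)
    (U : X.Opens) (hU : IsCompact (U : Set X)) :
    ∃ (E : X.Modules) (u : E ⟶ Coh.structureModule X), FlatMod.IsFinLocFree E ∧
      (∀ x ∈ U, ∃ (W : X.Opens) (e : Γ(E, W)), x ∈ X.basicOpen (show Γ(X, W) from u.app W e)) ∧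
      ∀ (W : X.Opens) (e : Γ(E, W)), X.basicOpen (show Γ(X, W) from u.app W e) ≤ U := by
  classical
  let K := Scheme.IdealSheafData.vanishingIdeal (⟨(U : Set X)ᶜ, U.2.isClosed_compl⟩ : Closeds X)
  let M := ClSub.idealMod K
  haveI : Coh.IsQCoh M := OmegaAffLib.isQCoh_idealMod (K := K)
  have hsupp : (K.support : Set X) = (U : Set X)ᶜ := by
    rw [Scheme.IdealSheafData.coe_support_vanishingIdeal]; rfl
  have hloc : ∀ x ∈ U, ∃ (W : X.affineOpens) (m : Γ(M, W.1)),
      x ∈ W.1 ∧ x ∈ X.basicOpen (OmegaSh.idealSect K W.1 m) := by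
    intro x hx
    obtain ⟨_, ⟨W : X.Opens, hW, rfl⟩, hxW, -⟩ :=
      X.isBasis_affineOpens.exists_subset_of_mem_open (Set.mem_univ x) isOpen_univ
    have hxs : x ∉ (K.support : Set X) := by rw [hsupp]; exact fun h => h hx
    have hz : ∃ r ∈ K.ideal ⟨W, hW⟩, x ∈ X.basicOpen r := by
      by_contra hcon
      push Not at hcon
      refine hxs ((K.mem_support_iff_of_mem (U := ⟨W, hW⟩) hxW).2 ?_)
      rw [Scheme.mem_zeroLocus_iff]
      exact fun r hr => hcon r hr
    obtain ⟨r, hr, hxr⟩ := hz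
    obtain ⟨m, rfl⟩ := (OmegaAffLib.mem_range_idealSect K ⟨W, hW⟩ r).1 hr
    exact ⟨⟨W, hW⟩, m, hxW, hxr⟩
  choose W m hxW hxm using hloc
  obtain ⟨t, ht⟩ := hU.elim_finite_subcover (fun x : U => (X.basicOpen (OmegaSh.idealSect K (W x.1 x.2).1 (m x.1 x.2)) : Set X))
    (fun x => (X.basicOpen _).2) (fun x hx => Set.mem_iUnion.2 ⟨⟨x, hx⟩, hxm x hx⟩)
  choose E φ hE hφ using fun x : U => ResPropLib.exists_map_through (𝟙 X) hX M (W x.1 x.2).2
    (show Γ(M, (𝟙 X : X ⟶ X) ⁻¹ᵁ (W x.1 x.2).1) from m x.1 x.2)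
  let ε := Fintype.equivFin (↥t)
  let G : Fin (Fintype.card ↥t) → X.Modules := fun k => (Scheme.Modules.pullback (𝟙 X)).obj (E (ε.symm k).1)
  let u : ∐ G ⟶ Coh.structureModule X := Sigma.desc (fun k => φ (ε.symm k).1) ≫ ClSub.idealModι K
  refine ⟨∐ G, u, ResPropLib.isFinLocFree_sigma _ _ fun k => isFinLocFree_pullback _ _ (hE _), fun x hx => ?_, fun V e => ?_⟩
  · obtain ⟨j, hj, hxj⟩ := Set.mem_iUnion₂.1 (ht hx)
    obtain ⟨k, hk⟩ := ε.symm.surjective ⟨j, hj⟩
    have hxW' : x ∈ (W j.1 j.2).1 := X.basicOpen_le _ hxj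
    obtain ⟨z, hz⟩ := hφ j x hxW'
    have hz' : M.presheaf.germ (W j.1 j.2).1 x hxW' (m j.1 j.2) ∈
        LinearMap.range (stalkLin (Sigma.desc fun k => φ (ε.symm k).1) x) := by
      refine ResPropLib.range_stalkLin_le (fun k => φ (ε.symm k).1) k x ?_
      rw [hk]
      exact ⟨z, hz⟩
    obtain ⟨z', hz'⟩ := hz'
    obtain ⟨V', hV', e', rfl⟩ := TopCat.Presheaf.exists_germ_eq (∐ G).presheaf z'
    rw [stalkLin_germ] at hz'
    obtain ⟨V'', hV'', i₁, i₂, hres⟩ := TopCat.Presheaf.germ_eq M.presheaf x _ _ _ _ hz'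
    refine ⟨V'', (∐ G).presheaf.map i₁.op e', ?_⟩
    have h1 : u.app V'' ((∐ G).presheaf.map i₁.op e') =
        X.presheaf.map i₂.op (OmegaSh.idealSect K (W j.1 j.2).1 (m j.1 j.2)) := by
      show (ClSub.idealModι K).app V'' ((Sigma.desc fun k => φ (ε.symm k).1).app V'' ((∐ G).presheaf.map i₁.op e')) = _
      rw [show (Sigma.desc fun k => φ (ε.symm k).1).app V'' ((∐ G).presheaf.map i₁.op e') =
        M.presheaf.map i₁.op ((Sigma.desc fun k => φ (ε.symm k).1).app V' e') from
        ConcreteCategory.congr_hom ((Sigma.desc fun k => φ (ε.symm k).1).mapPresheaf.naturality i₁.op) e', hres]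
      exact ConcreteCategory.congr_hom ((ClSub.idealModι K).mapPresheaf.naturality i₂.op) (m j.1 j.2)
    show x ∈ X.basicOpen (show Γ(X, V'') from u.app V'' ((∐ G).presheaf.map i₁.op e'))
    rw [show (show Γ(X, V'') from u.app V'' ((∐ G).presheaf.map i₁.op e')) =
      X.presheaf.map i₂.op (OmegaSh.idealSect K (W j.1 j.2).1 (m j.1 j.2)) from h1, Scheme.basicOpen_res]
    exact ⟨hV'', hxj⟩
  · intro x hx
    by_contra hxU
    have hxV : x ∈ V := X.basicOpen_le _ hx
    let g : Γ(M, V) := (Sigma.desc fun k => φ (ε.symm k).1).app V e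
    obtain ⟨_, ⟨V₀ : X.Opens, hV₀, rfl⟩, hxV₀, hle⟩ :=
      X.isBasis_affineOpens.exists_subset_of_mem_open (u := (V : Set X)) hxV V.2
    have hmem : OmegaSh.idealSect K V₀ (M.presheaf.map (homOfLE hle).op g) ∈ K.ideal ⟨V₀, hV₀⟩ :=
      (OmegaAffLib.mem_range_idealSect K ⟨V₀, hV₀⟩ _).2 ⟨_, rfl⟩
    have hsup : x ∈ K.support := by
      show x ∈ (K.support : Set X)
      rw [hsupp]; exact hxU
    have h2 := (Scheme.mem_zeroLocus_iff ..).1 ((K.mem_support_iff_of_mem (U := ⟨V₀, hV₀⟩) hxV₀).1 hsup) _ hmem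
    refine h2 ?_
    rw [show OmegaSh.idealSect K V₀ (M.presheaf.map (homOfLE hle).op g) =
      X.presheaf.map (homOfLE hle).op (show Γ(X, V) from u.app V e) from
      ConcreteCategory.congr_hom ((ClSub.idealModι K).mapPresheaf.naturality (homOfLE hle).op) g,
      Scheme.basicOpen_res]
    exact ⟨hxV₀, hx⟩

/-- The affine open is met in affine opens by affine opens. -/
theorem isAffineOpen_inf [CompactSpace ↥X] [QuasiSeparatedSpace ↥X] (hX : PerfAux.HasResolutionProperty X)
    (U V : X.Opens) (hU : IsAffineOpen U) (hV : IsAffineOpen V) : IsAffineOpen (U ⊓ V) := by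
  classical
  obtain ⟨E, u, hE, hsurj, hsupp⟩ := exists_cosection hX U hU.isCompact
  haveI : Coh.IsQCoh E := (isQCoh_and_isFP_of_isFinLocFree E hE).1
  let O := Coh.structureModule X
  let uL : ∀ W : X.Opens, Γ(E, W) →ₗ[Γ(X, W)] Γ(X, W) := fun W =>
    { toFun := fun e => u.app W e
      map_add' := map_add _
      map_smul' := fun a e => Scheme.Modules.Hom.app_smul u a e }
  -- a section mapping to one
  obtain ⟨ψ, hψ⟩ : ∃ ψ : Γ(E, U), uL U ψ = 1 := by
    have htop : LinearMap.range (uL U) = (⊤ : Ideal Γ(X, U)) := by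
      by_contra hne
      obtain ⟨P, hP, hle⟩ := Ideal.exists_le_maximal _ hne
      let y : PrimeSpectrum Γ(X, U) := ⟨P, hP.isPrime⟩
      have hyU : hU.fromSpec y ∈ U := by
        have : hU.fromSpec y ∈ Set.range hU.fromSpec := ⟨y, rfl⟩
        rwa [hU.range_fromSpec] at this
      have hall : ∀ r ∈ LinearMap.range (uL U), ¬ hU.fromSpec y ∈ X.basicOpen r := fun r hr h => by
        have h' : y ∈ hU.fromSpec ⁻¹ᵁ X.basicOpen r := h
        rw [hU.fromSpec_preimage_basicOpen] at h'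
        exact h' (hle hr)
      set x := hU.fromSpec y
      obtain ⟨W, e, hxe⟩ := hsurj x hyU
      obtain ⟨f, hfle, hxf⟩ := hU.exists_basicOpen_le (V := U ⊓ W) ⟨x, hyU, X.basicOpen_le _ hxe⟩ hyU
      obtain ⟨n, σ, hσ⟩ := (QCohLib.locAt E hU).extend f
        (E.presheaf.map (homOfLE (le_trans hfle inf_le_right : X.basicOpen f ≤ W)).op e)
      rw [CohBase.sc_apply] at hσ
      refine hall _ ⟨σ, rfl⟩ ?_
      have h2 := congrArg (uL (X.basicOpen f)) hσ
      rw [map_smul] at h2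
      have n1 : uL (X.basicOpen f) (E.presheaf.map (homOfLE (X.basicOpen_le f)).op σ) =
          X.presheaf.map (homOfLE (X.basicOpen_le f)).op (uL U σ) :=
        ConcreteCategory.congr_hom (u.mapPresheaf.naturality (homOfLE (X.basicOpen_le f)).op) σ
      have n2 : uL (X.basicOpen f) (E.presheaf.map (homOfLE (le_trans hfle inf_le_right : X.basicOpen f ≤ W)).op e) =
          X.presheaf.map (homOfLE (le_trans hfle inf_le_right : X.basicOpen f ≤ W)).op (uL W e) :=
        ConcreteCategory.congr_hom (u.mapPresheaf.naturality (homOfLE (le_trans hfle inf_le_right : X.basicOpen f ≤ W)).op) e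
      rw [n1, n2, smul_eq_mul] at h2
      have h3 := congrArg X.basicOpen h2
      simp only [Scheme.basicOpen_mul, Scheme.basicOpen_res] at h3
      have hx3 : x ∈ X.basicOpen f ⊓ X.basicOpen (uL U σ) := by
        rw [h3]
        refine ⟨⟨hxf, (X.mem_basicOpen _ x hyU).2 ?_⟩, hxf, hxe⟩
        rw [map_pow]
        exact ((X.mem_basicOpen f x hyU).1 hxf).pow n
      exact hx3.2
    obtain ⟨ψ, hψ⟩ := LinearMap.mem_range.1 (htop.ge (Submodule.mem_top (x := (1 : Γ(X, U)))))
    exact ⟨ψ, hψ⟩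
  -- coefficients over `V`
  haveI := FactorOne.projective_sections _ hE hV
  haveI : SheafOfModules.IsFinitePresentation (R := X.ringCatSheaf) E := (isQCoh_and_isFP_of_isFinLocFree E hE).2
  haveI := QCohLib.finite_sections E (show SheafOfModules.IsFiniteType (R := X.ringCatSheaf) E from inferInstance) hV
  obtain ⟨k, π, hπ⟩ := Module.Finite.exists_fin' Γ(X, V) Γ(E, V)
  obtain ⟨σ, hσ⟩ := Module.projective_lifting_property π LinearMap.id hπ
  let e : Fin k → Γ(E, V) := fun i => π (Pi.single i 1)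
  let lam : Fin k → (Γ(E, V) →ₗ[Γ(X, V)] Γ(O, V)) := fun i => (LinearMap.proj i).comp σ
  have hlam : ∀ x, ∑ i, (show Γ(X, V) from lam i x) • e i = x := fun x => by
    calc _ = π (σ x) := by
          conv_rhs => rw [pi_eq_sum_univ' (σ x), map_sum]
          exact Finset.sum_congr rfl fun i _ => (map_smul π _ _).symm
      _ = x := DFunLike.congr_fun hσ x
  let W := U ⊓ V
  let J := {V' : X.Opens // IsAffineOpen V' ∧ V' ≤ W}
  have hc : W ≤ ⨆ p : J, p.1 := fun x hx => by
    obtain ⟨_, ⟨V', hV', rfl⟩, hxV', hle⟩ := X.isBasis_affineOpens.exists_subset_of_mem_open (a := x) (u := (W : Set X)) hx W.2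
    exact Opens.mem_iSup.2 ⟨⟨V', hV', hle⟩, hxV'⟩
  let F' : TopCat.Sheaf Ab.{u} X.carrier := ⟨O.presheaf, O.isSheaf⟩
  let a : Fin k → ∀ p : J, Γ(O, p.1) := fun i p =>
    LimHom.ext E O hV (lam i) p.2.1 (p.2.2.trans inf_le_right) (E.presheaf.map (homOfLE (p.2.2.trans inf_le_left)).op ψ)
  have hglue : ∀ i, ∃! s : Γ(O, W), ∀ p : J, O.presheaf.map (homOfLE p.2.2).op s = a i p := fun i => by
    refine TopCat.Sheaf.existsUnique_gluing' F' (fun p : J => p.1) W (fun p => homOfLE p.2.2) hc (a i) fun p q => ?_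
    refine TopCat.Sheaf.eq_of_locally_eq' F' (fun r : {r : J // r.1 ≤ p.1 ⊓ q.1} => r.1.1) _ (fun r => homOfLE r.2)
      (fun x hx => ?_) _ _ fun r => ?_
    · obtain ⟨_, ⟨V', hV', rfl⟩, hxV', hle⟩ :=
        X.isBasis_affineOpens.exists_subset_of_mem_open (a := x) (u := (↑(p.1 ⊓ q.1) : Set X)) hx (p.1 ⊓ q.1).2
      exact Opens.mem_iSup.2 ⟨⟨⟨V', hV', fun y hy => p.2.2 (hle hy).1⟩, hle⟩, hxV'⟩
    · show O.presheaf.map (homOfLE r.2).op (O.presheaf.map (homOfLE inf_le_left).op _) =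
        O.presheaf.map (homOfLE r.2).op (O.presheaf.map (homOfLE inf_le_right).op _)
      rw [CohBase.restr_trans, CohBase.restr_trans, LimHom.res_ext_apply E O _ _ p.2.1 r.1.2.1 _ (r.2.trans inf_le_left),
        LimHom.res_ext_apply E O _ _ q.2.1 r.1.2.1 _ (r.2.trans inf_le_right), CohBase.restr_trans, CohBase.restr_trans]
  choose s hs _ using hglue
  let g : Fin k → Γ(X, W) := fun i => X.presheaf.map (homOfLE (inf_le_right : W ≤ V)).op (uL V (e i))
  have hone : ∑ i, (show Γ(X, W) from s i) * g i = 1 := by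
    refine X.sheaf.eq_of_locally_eq' (fun p : J => p.1) W (fun p => homOfLE p.2.2) hc _ _ fun p => ?_
    have hV' : p.1 ≤ V := p.2.2.trans inf_le_right
    have hU' : p.1 ≤ U := p.2.2.trans inf_le_left
    let ψ' := E.presheaf.map (homOfLE hU').op ψ
    let T : Γ(E, p.1) →ₗ[Γ(X, p.1)] Γ(E, p.1) :=
      ∑ i, (LinearMap.toSpanSingleton Γ(X, p.1) Γ(E, p.1) (E.presheaf.map (homOfLE hV').op (e i))).comp
        (show Γ(E, p.1) →ₗ[Γ(X, p.1)] Γ(X, p.1) from LimHom.ext E O hV (lam i) p.2.1 hV')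
    have hT : T = LinearMap.id := LimHom.res_ext E hV p.2.1 hV' fun x => by
      simp only [T, LinearMap.sum_apply, LinearMap.comp_apply, LinearMap.toSpanSingleton_apply, LinearMap.id_apply]
      conv_rhs => rw [← hlam x, map_sum]
      refine Finset.sum_congr rfl fun i _ => ?_
      rw [Scheme.Modules.map_smul]
      exact congrArg (· • _) (LimHom.ext_res E O hV (lam i) p.2.1 hV' x)
    have h1 : uL p.1 ψ' = 1 := by
      show (show Γ(X, p.1) from u.app p.1 (E.presheaf.map (homOfLE hU').op ψ)) = (1 : Γ(X, p.1))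
      refine (ConcreteCategory.congr_hom (u.mapPresheaf.naturality (homOfLE hU').op) ψ).trans ?_
      refine (congrArg (X.presheaf.map (homOfLE hU').op) hψ).trans ?_
      exact (X.presheaf.map (homOfLE hU').op).hom.map_one
    show X.presheaf.map (homOfLE p.2.2).op _ = X.presheaf.map (homOfLE p.2.2).op 1
    rw [map_sum, map_one, ← h1, show ψ' = T ψ' by rw [hT]; rfl]
    simp only [T, LinearMap.sum_apply, LinearMap.comp_apply, LinearMap.toSpanSingleton_apply, map_sum, map_smul]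
    refine Finset.sum_congr rfl fun i _ => ?_
    rw [map_mul, smul_eq_mul]
    refine congrArg₂ (· * ·) (hs i p) ?_
    show X.presheaf.map (homOfLE p.2.2).op (X.presheaf.map (homOfLE (inf_le_right : W ≤ V)).op (u.app V (e i))) =
      u.app p.1 (E.presheaf.map (homOfLE hV').op (e i))
    refine Eq.trans ?_ (ConcreteCategory.congr_hom (u.mapPresheaf.naturality (homOfLE hV').op) (e i)).symm
    exact CohBase.restr_trans O inf_le_right p.2.2 (u.app V (e i))
  refine isAffineOpen_of_isAffineOpen_basicOpen W (Set.range g)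
    (Ideal.eq_top_of_isUnit_mem _ (hone ▸ sum_mem fun i _ => Ideal.mul_mem_left _ _ (Ideal.subset_span ⟨i, rfl⟩)) isUnit_one) ?_
  rintro _ ⟨i, rfl⟩
  show IsAffineOpen (X.basicOpen (X.presheaf.map (homOfLE (inf_le_right : W ≤ V)).op (uL V (e i))))
  rw [Scheme.basicOpen_res]
  have h : W ⊓ X.basicOpen (uL V (e i)) = X.basicOpen (uL V (e i)) :=
    inf_eq_right.2 (le_inf (hsupp V (e i)) (X.basicOpen_le _))
  rw [h]
  exact hV.basicOpen _

end Groth.Agent.ResDiagLib
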